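/-
Perfect central extensions with kernel of exponent 2.

* `squares_trivial`: if an elementary abelian section `A` (|A| ≥ 8) of the quotient has all its
  non-identity elements conjugate, then its preimage is elementary abelian.
* `mem_commutator_of_perfect`: a central element of order 2 of a perfect group lies in the derived
  subgroup of every subgroup of odd index (transfer).
* `exists_perfect_fibre`: perfect subdirect subgroup of a fibre product of perfect central
  extensions.
-/
import Mathlib.GroupTheory.Transfer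
import Mathlib.GroupTheory.Abelianization.Defs
import Mathlib.Algebra.Group.Subgroup.Finite
import Mathlib.Tactic.Group

set_option autoImplicit false

namespace Cfsg.Agent.ElementaryCover

open scoped commutatorElement

variable {L Q : Type*} [Group L] [Group Q] (π : L →* Q)

/-- the preimage of an elementary abelian group with all non-identity elements conjugate -/
theorem squares_trivial {A : Type*} [AddCommGroup A] (f : A → Q) (hπ : Function.Surjective π)
    (hZc : π.ker ≤ Subgroup.center L) (hZ2 : ∀ z ∈ π.ker, z * z = 1)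
    (hf0 : f 0 = 1) (hfadd : ∀ u v, f (u + v) = f u * f v) (htwo : ∀ u : A, u + u = 0)
    (e : A) (htrans : ∀ v : A, v ≠ 0 → ∃ q : Q, q * f e * q⁻¹ = f v)
    (hbig : ∃ u v w : A, u ≠ 0 ∧ v ≠ 0 ∧ w ≠ 0 ∧ v + w ≠ 0 ∧ u + v ≠ 0 ∧ u + w ≠ 0 ∧ u + v + w ≠ 0) :
    ∀ x : L, (∃ v, π x = f v) → x * x = 1 := by
  have cen : ∀ z : L, π z = 1 → ∀ y : L, z * y = y * z := by
    intro z hz y
    exact ((Subgroup.mem_center_iff.1 (hZc hz)) y).symm
  -- squares do not depend on the lift
  have indep : ∀ x y : L, π x = π y → x * x = y * y := by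
    intro x y h
    have hk : π (y⁻¹ * x) = 1 := by rw [map_mul, map_inv, h, inv_mul_cancel]
    have h2 := hZ2 _ (MonoidHom.mem_ker.2 hk)
    calc x * x = y * (y⁻¹ * x) * (y * (y⁻¹ * x)) := by group
      _ = y * ((y⁻¹ * x) * y) * (y⁻¹ * x) := by group
      _ = y * (y * (y⁻¹ * x)) * (y⁻¹ * x) := by rw [cen _ hk y]
      _ = (y * y) * ((y⁻¹ * x) * (y⁻¹ * x)) := by group
      _ = y * y := by rw [h2, mul_one]
  choose l hl using fun v => hπ (f v)
  have hlmul : ∀ u v, π (l u * l v) = f (u + v) := fun u v => by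
    rw [map_mul, hl, hl, hfadd]
  set c := l e * l e with hc
  have hcker : π c = 1 := by rw [hc, hlmul, htwo, hf0]
  have hcc : c * c = 1 := hZ2 _ (MonoidHom.mem_ker.2 hcker)
  have hsq : ∀ v : A, v ≠ 0 → ∀ x : L, π x = f v → x * x = c := by
    intro v hv x hx
    obtain ⟨q, hq⟩ := htrans v hv
    obtain ⟨g, rfl⟩ := hπ q
    rw [indep x (g * l e * g⁻¹) (by rw [hx, map_mul, map_mul, map_inv, hl, hq])]
    calc g * l e * g⁻¹ * (g * l e * g⁻¹) = g * (l e * l e) * g⁻¹ := by group
      _ = g * c * g⁻¹ := rfl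
      _ = c := by rw [← cen c hcker g, mul_inv_cancel_right]
  have hcinv : c⁻¹ = c := inv_eq_of_mul_eq_one_right hcc
  -- commutators of independent lifts are all `c`
  have hcomm : ∀ x y : L, ∀ u v : A, u ≠ 0 → v ≠ 0 → u + v ≠ 0 → π x = f u → π y = f v →
      ⁅x, y⁆ = c := by
    intro x y u v hu hv huv hx hy
    have hxx := hsq u hu x hx
    have hyy := hsq v hv y hy
    have hxy := hsq _ huv (x * y) (by rw [map_mul, hx, hy, hfadd])
    have hxi : x⁻¹ = x * c := by
      apply inv_eq_of_mul_eq_one_right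
      rw [← mul_assoc, hxx, hcc]
    have hyi : y⁻¹ = y * c := by
      apply inv_eq_of_mul_eq_one_right
      rw [← mul_assoc, hyy, hcc]
    calc ⁅x, y⁆ = x * y * x⁻¹ * y⁻¹ := commutatorElement_def x y
      _ = x * y * x * (c * y) * c := by rw [hxi, hyi]; group
      _ = x * y * (x * y) * (c * c) := by rw [cen c hcker y]; group
      _ = c := by rw [hxy, hcc, mul_one]
  have hc1 : c = 1 := by
    obtain ⟨u, v, w, hu, hv, hw, hvw, huv, huw, huvw⟩ := hbig
    have h1 := hcomm (l u) (l v * l w) u (v + w) hu hvw (by rwa [← add_assoc]) (hl u) (hlmul v w)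
    have h2 := hcomm (l u) (l v) u v hu hv huv (hl u) (hl v)
    have h3 := hcomm (l u) (l w) u w hu hw huw (hl u) (hl w)
    have key : ⁅l u, l v * l w⁆ = ⁅l u, l v⁆ * (l v * ⁅l u, l w⁆ * (l v)⁻¹) := by
      simp only [commutatorElement_def]
      group
    rw [h1, h2, h3, ← cen c hcker (l v), mul_inv_cancel_right, hcc] at key
    exact key
  rintro x ⟨v, hx⟩
  by_cases hv : v = 0
  · subst hv
    exact hZ2 _ (MonoidHom.mem_ker.2 (by rw [hx, hf0]))
  · rw [hsq v hv x hx, hc1]

/-- Elements of exponent two in a set closed under multiplication commute. -/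
theorem commute_of_squares {x y : L} (hx : x * x = 1) (hy : y * y = 1)
    (hxy : x * y * (x * y) = 1) : x * y = y * x := by
  have hxi : x⁻¹ = x := inv_eq_of_mul_eq_one_right hx
  have hyi : y⁻¹ = y := inv_eq_of_mul_eq_one_right hy
  calc x * y = (x * y)⁻¹ := (inv_eq_of_mul_eq_one_right hxy).symm
    _ = y * x := by rw [mul_inv_rev, hxi, hyi]

/-- Transfer: central involutions of a perfect group lie in the derived group of every subgroup of
odd index. -/
theorem mem_commutator_of_perfect [Finite L] (hperf : commutator L = ⊤) (P : Subgroup L)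
    (hodd : Odd P.index) (z : L) (hz : z ∈ Subgroup.center L) (hz2 : z * z = 1) :
    z ∈ ⁅P, P⁆ := by
  haveI : P.FiniteIndex := ⟨fun h => by rw [h] at hodd; exact absurd hodd (by decide)⟩
  set φ : ↥P →* Abelianization ↥P := Abelianization.of
  have hker : z ∈ (MonoidHom.transfer φ).ker := by
    refine Abelianization.commutator_subset_ker _ ?_
    rw [hperf]
    exact Subgroup.mem_top z
  have key : ∀ (k : ℕ) (g₀ : L), g₀⁻¹ * z ^ k * g₀ ∈ P → g₀⁻¹ * z ^ k * g₀ = z ^ k := by
    intro k g₀ _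
    rw [mul_assoc, ← (Subgroup.mem_center_iff.1 ((Subgroup.center L).pow_mem hz k)) g₀,
      ← mul_assoc, inv_mul_cancel, one_mul]
  rw [MonoidHom.mem_ker, MonoidHom.transfer_eq_pow φ z key] at hker
  have hzi : z ^ P.index = z := by
    obtain ⟨m, hm⟩ := hodd
    rw [hm, pow_succ, pow_mul, sq, hz2, one_pow, one_mul]
  have hmem := Abelianization.ker_of (G := ↥P) ▸ MonoidHom.mem_ker.2 hker
  rw [← Subgroup.map_subtype_commutator]
  exact ⟨_, hmem, hzi⟩

/-- In a finite setting, adjoining an element of square one commuting with `H` at most doubles the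
order. -/
theorem exists_double [Finite L] (H : Subgroup L) (e : L) (he : e * e = 1)
    (hc : ∀ h ∈ H, e * h = h * e) :
    ∃ H' : Subgroup L, H ≤ H' ∧ e ∈ H' ∧ Nat.card ↥H' ≤ 2 * Nat.card ↥H ∧
      ∀ g : L, (∀ h ∈ H, g * h = h * g) → g * e = e * g → ∀ h ∈ H', g * h = h * g := by
  classical
  have hei : e⁻¹ = e := inv_eq_of_mul_eq_one_right he
  let H' : Subgroup L :=
    { carrier := {x | x ∈ H ∨ e * x ∈ H}
      one_mem' := Or.inl H.one_mem
      mul_mem' := by
        rintro a b (ha | ha) (hb | hb)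
        · exact Or.inl (H.mul_mem ha hb)
        · right
          have : e * (a * b) = a * (e * b) := by rw [← mul_assoc, hc a ha, mul_assoc]
          rw [this]; exact H.mul_mem ha hb
        · right
          rw [← mul_assoc]; exact H.mul_mem ha hb
        · left
          have : a * b = e * a * (e * b) := by
            rw [hc _ ha |>.symm |> fun h => (mul_assoc (e * a) e b).symm.trans (by rw [h]),
              ← mul_assoc e e a, he, one_mul]
          rw [this]; exact H.mul_mem ha hb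
      inv_mem' := by
        rintro a (ha | ha)
        · exact Or.inl (H.inv_mem ha)
        · right
          have h1 := H.inv_mem ha
          rw [mul_inv_rev, hei] at h1
          have h2 := hc _ h1
          rw [mul_assoc a⁻¹ e e, he, mul_one] at h2
          have h3 : e * a⁻¹ = a⁻¹ * e := by
            calc e * a⁻¹ = e * (a⁻¹ * e * e) := by rw [mul_assoc a⁻¹, he, mul_one]
              _ = e * (a⁻¹ * e) * e := (mul_assoc _ _ _).symm
              _ = a⁻¹ * e := by rw [h2]
          rw [h3]; exact h1 }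
  refine ⟨H', fun x hx => Or.inl hx, Or.inr (by rw [he]; exact H.one_mem), ?_, ?_⟩
  · have hsub : (H' : Set L) ⊆ (H : Set L) ∪ (fun x => e * x) '' (H : Set L) := by
      rintro x (hx | hx)
      · exact Or.inl hx
      · exact Or.inr ⟨e * x, hx, by simp [← mul_assoc, he]⟩
    calc Nat.card ↥H' = (H' : Set L).ncard := rfl
      _ ≤ ((H : Set L) ∪ (fun x => e * x) '' (H : Set L)).ncard :=
        Set.ncard_le_ncard hsub (Set.toFinite _)
      _ ≤ (H : Set L).ncard + ((fun x => e * x) '' (H : Set L)).ncard := Set.ncard_union_le _ _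
      _ = 2 * Nat.card ↥H := by
        rw [Set.ncard_image_of_injective _ (mul_right_injective e), ← Nat.card_coe_set_eq]
        exact (two_mul _).symm
  · rintro g hg hge h (hh | hh)
    · exact hg h hh
    · have h1 := hg _ hh
      apply mul_left_cancel (a := e)
      rw [← mul_assoc, ← hge, mul_assoc, h1, mul_assoc]

/-- A perfect subdirect subgroup of the fibre product of two perfect central extensions. -/
theorem exists_perfect_fibre {L₂ : Type*} [Group L₂] [Finite L] [Finite L₂]
    (π₂ : L₂ →* Q) (hπ : Function.Surjective π) (hπ₂ : Function.Surjective π₂)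
    (hZ : π₂.ker ≤ Subgroup.center L₂) (h1 : commutator L = ⊤) (h2 : commutator L₂ = ⊤) :
    ∃ K : Subgroup (L × L₂), (∀ x ∈ K, π x.1 = π₂ x.2) ∧
      K.map (MonoidHom.fst L L₂) = ⊤ ∧ K.map (MonoidHom.snd L L₂) = ⊤ ∧ ⁅K, K⁆ = K := by
  classical
  let S : Set (Subgroup (L × L₂)) :=
    {K | (∀ x ∈ K, π x.1 = π₂ x.2) ∧ K.map (MonoidHom.fst L L₂) = ⊤}
  let FP : Subgroup (L × L₂) :=
    (π.comp (MonoidHom.fst L L₂)).eqLocus (π₂.comp (MonoidHom.snd L L₂))
  have hFP : FP ∈ S := by
    refine ⟨fun x hx => hx, ?_⟩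
    rw [eq_top_iff]
    intro a _
    obtain ⟨b, hb⟩ := hπ₂ (π a)
    exact ⟨(a, b), hb.symm, rfl⟩
  obtain ⟨K, hKS, hmin⟩ := (Set.toFinite S).exists_minimal ⟨FP, hFP⟩
  obtain ⟨hKeq, hK1⟩ := hKS
  have hperf : ⁅K, K⁆ = K := by
    have hle : ⁅K, K⁆ ≤ K := Subgroup.commutator_le_self K
    refine le_antisymm hle (hmin ⟨fun x hx => hKeq x (hle hx), ?_⟩ hle)
    rw [Subgroup.map_commutator, hK1, ← commutator_def, h1]
  refine ⟨K, hKeq, hK1, ?_, hperf⟩
  set M := K.map (MonoidHom.snd L L₂) with hM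
  have hMZ : ∀ b : L₂, ∃ m ∈ M, m⁻¹ * b ∈ Subgroup.center L₂ := by
    intro b
    obtain ⟨a, ha⟩ := hπ (π₂ b)
    have : a ∈ K.map (MonoidHom.fst L L₂) := by rw [hK1]; exact Subgroup.mem_top a
    obtain ⟨x, hx, rfl⟩ := this
    refine ⟨x.2, ⟨x, hx, rfl⟩, hZ ?_⟩
    rw [MonoidHom.mem_ker, map_mul, map_inv, ← hKeq x hx]
    simp only [MonoidHom.coe_fst] at ha
    rw [ha, inv_mul_cancel]
  rw [eq_top_iff, ← h2, commutator_def, Subgroup.commutator_le]
  intro b _ b' _
  obtain ⟨m, hm, hmc⟩ := hMZ b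
  obtain ⟨m', hm', hmc'⟩ := hMZ b'
  have e1 : b = m * (m⁻¹ * b) := by group
  have e2 : b' = m' * (m'⁻¹ * b') := by group
  set z := m⁻¹ * b
  set z' := m'⁻¹ * b'
  have : ⁅b, b'⁆ = ⁅m, m'⁆ := by
    rw [e1, e2]
    have c1 := Subgroup.mem_center_iff.1 hmc
    have c2 := Subgroup.mem_center_iff.1 hmc'
    simp only [commutatorElement_def, mul_inv_rev]
    calc m * z * (m' * z') * (z⁻¹ * m⁻¹) * (z'⁻¹ * m'⁻¹)
        = m * (z * (m' * z')) * z⁻¹ * m⁻¹ * z'⁻¹ * m'⁻¹ := by group
      _ = m * ((m' * z') * z) * z⁻¹ * m⁻¹ * z'⁻¹ * m'⁻¹ := by rw [c1 (m' * z')]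
      _ = m * m' * (z' * m⁻¹) * z'⁻¹ * m'⁻¹ := by group
      _ = m * m' * (m⁻¹ * z') * z'⁻¹ * m'⁻¹ := by rw [c2 m⁻¹]
      _ = m * m' * m⁻¹ * m'⁻¹ := by group
  rw [this]
  exact Subgroup.mul_mem _ (Subgroup.mul_mem _ (Subgroup.mul_mem _ hm hm') (Subgroup.inv_mem _ hm))
    (Subgroup.inv_mem _ hm')

end Cfsg.Agent.ElementaryCover
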