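/-
A perfect central extension of PSL(3,4) with kernel of exponent 2 has kernel of order at most 4.

A Sylow 2-subgroup is the product of the preimages of two elementary abelian groups of order 16,
both elementary abelian; so its derived group is generated by four central involutions and maps
onto the root group at position (1,3).  Transfer puts the kernel inside this derived group.
-/
import Cfsg.Agent.Lib.Cover.ElementaryCover
import Cfsg.Agent.Lib.Classical.SL

set_option autoImplicit false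

namespace Cfsg.Agent.PSL34Cover

open scoped commutatorElement
open Matrix ElementaryCover

section Matrices

variable {F : Type*} [Field F]

/-- upper unitriangular matrix -/
def uni (a b c : F) : SpecialLinearGroup (Fin 3) F :=
  ⟨!![1, a, b; 0, 1, c; 0, 0, 1], by simp [det_fin_three]⟩

theorem coe_uni (a b c : F) :
    (uni a b c : Matrix (Fin 3) (Fin 3) F) = !![1, a, b; 0, 1, c; 0, 0, 1] := rfl

/-- bundle a matrix of determinant one -/
def mkSL (M : Matrix (Fin 3) (Fin 3) F) (h : M.det = 1) : SpecialLinearGroup (Fin 3) F := ⟨M, h⟩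

theorem coe_mkSL (M : Matrix (Fin 3) (Fin 3) F) (h : M.det = 1) :
    (mkSL M h : Matrix (Fin 3) (Fin 3) F) = M := rfl

theorem uni_mul (a b c a' b' c' : F) :
    uni a b c * uni a' b' c' = uni (a + a') (b + b' + a * c') (c + c') := by
  apply Matrix.SpecialLinearGroup.ext
  intro i j
  simp only [Matrix.SpecialLinearGroup.coe_mul, coe_uni, coe_mkSL]
  fin_cases i <;> fin_cases j <;>
    simp [Matrix.mul_apply, Fin.sum_univ_three] <;> ring

theorem uni_zero : uni (0 : F) 0 0 = 1 := by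
  apply Matrix.SpecialLinearGroup.ext
  intro i j
  rw [coe_uni, Matrix.SpecialLinearGroup.coe_one]
  fin_cases i <;> fin_cases j <;> simp

theorem uni_inj {a b c a' b' c' : F} (h : uni a b c = uni a' b' c') : a = a' ∧ b = b' ∧ c = c' := by
  have h1 := congrArg (fun g : SpecialLinearGroup (Fin 3) F => g.1 0 1) h
  have h2 := congrArg (fun g : SpecialLinearGroup (Fin 3) F => g.1 0 2) h
  have h3 := congrArg (fun g : SpecialLinearGroup (Fin 3) F => g.1 1 2) h
  simp [uni] at h1 h2 h3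
  exact ⟨h1, h2, h3⟩

/-- the unitriangular subgroup -/
def Usub : Subgroup (SpecialLinearGroup (Fin 3) F) where
  carrier := Set.range fun p : F × F × F => uni p.1 p.2.1 p.2.2
  one_mem' := ⟨(0, 0, 0), uni_zero⟩
  mul_mem' := by
    rintro _ _ ⟨p, rfl⟩ ⟨q, rfl⟩
    exact ⟨(p.1 + q.1, p.2.1 + q.2.1 + p.1 * q.2.2, p.2.2 + q.2.2), (uni_mul ..).symm⟩
  inv_mem' := by
    rintro _ ⟨⟨a, b, c⟩, rfl⟩
    refine ⟨(-a, -b + a * c, -c), eq_inv_of_mul_eq_one_left ?_⟩
    simp only
    rw [uni_mul, ← uni_zero]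
    congr 1 <;> ring

theorem card_Usub : Nat.card ↥(Usub (F := F)) = Nat.card F * (Nat.card F * Nat.card F) := by
  have hinj : Function.Injective fun p : F × F × F => uni p.1 p.2.1 p.2.2 := by
    rintro ⟨a, b, c⟩ ⟨a', b', c'⟩ h
    obtain ⟨r1, r2, r3⟩ := uni_inj h
    subst r1; subst r2; subst r3; rfl
  have h := Nat.card_range_of_injective hinj
  rw [Nat.card_prod, Nat.card_prod] at h
  exact h

theorem trans_row {a b : F} (h : ¬(a = 0 ∧ b = 0)) (h2 : ∀ x : F, x + x = 0) :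
    ∃ g : SpecialLinearGroup (Fin 3) F, g * uni 1 0 0 * g⁻¹ = uni a b 0 := by
  have neg : ∀ x : F, -x = x := fun x => neg_eq_of_add_eq_zero_left (h2 x)
  obtain ⟨p, r, hpr⟩ : ∃ p r : F, a * p + b * r = 1 := by
    by_cases ha : a = 0
    · exact ⟨0, b⁻¹, by rw [mul_inv_cancel₀ (fun hb => h ⟨ha, hb⟩), mul_zero, zero_add]⟩
    · exact ⟨a⁻¹, 0, by rw [mul_inv_cancel₀ ha, mul_zero, add_zero]⟩
  refine ⟨mkSL !![1, 0, 0; 0, p, b; 0, r, a] ?_, mul_inv_eq_of_eq_mul ?_⟩
  · rw [det_fin_three]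
    simp
    rw [sub_eq_add_neg, neg, ← hpr]
    ring
  apply Matrix.SpecialLinearGroup.ext
  intro i j
  simp only [Matrix.SpecialLinearGroup.coe_mul, coe_uni, coe_mkSL]
  fin_cases i <;> fin_cases j <;>
    simp [Matrix.mul_apply, Fin.sum_univ_three, hpr]
  rw [mul_comm b a, h2]

theorem trans_col {b c : F} (h : ¬(b = 0 ∧ c = 0)) (h2 : ∀ x : F, x + x = 0) :
    ∃ g : SpecialLinearGroup (Fin 3) F, g * uni 0 0 1 * g⁻¹ = uni 0 b c := by
  have neg : ∀ x : F, -x = x := fun x => neg_eq_of_add_eq_zero_left (h2 x)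
  obtain ⟨p, r, hpr⟩ : ∃ p r : F, p * c + b * r = 1 := by
    by_cases hc : c = 0
    · exact ⟨0, b⁻¹, by rw [mul_inv_cancel₀ (fun hb => h ⟨hb, hc⟩), zero_mul, zero_add]⟩
    · exact ⟨c⁻¹, 0, by rw [inv_mul_cancel₀ hc, mul_zero, add_zero]⟩
  refine ⟨mkSL !![p, b, 0; r, c, 0; 0, 0, 1] ?_, mul_inv_eq_of_eq_mul ?_⟩
  · rw [det_fin_three]
    simp
    rw [sub_eq_add_neg, neg]
    exact hpr
  apply Matrix.SpecialLinearGroup.ext
  intro i j
  simp only [Matrix.SpecialLinearGroup.coe_mul, coe_uni, coe_mkSL]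
  fin_cases i <;> fin_cases j <;>
    simp [Matrix.mul_apply, Fin.sum_univ_three]

theorem uni13_central_eq {b : F}
    (h : uni 0 b 0 ∈ Subgroup.center (SpecialLinearGroup (Fin 3) F)) : b = 0 := by
  have hdet : (!![(1 : F), 0, 0; 1, 1, 0; 0, 0, 1]).det = 1 := by simp [det_fin_three]
  have h' := Subgroup.mem_center_iff.1 h (mkSL !![(1 : F), 0, 0; 1, 1, 0; 0, 0, 1] hdet)
  have h1 : ((mkSL _ hdet * uni 0 b 0 : SpecialLinearGroup (Fin 3) F) :
      Matrix (Fin 3) (Fin 3) F) 1 2 =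
      ((uni 0 b 0 * mkSL _ hdet : SpecialLinearGroup (Fin 3) F) : Matrix (Fin 3) (Fin 3) F) 1 2 := by
    rw [h']
  rw [Matrix.SpecialLinearGroup.coe_mul, Matrix.SpecialLinearGroup.coe_mul, coe_uni, coe_mkSL] at h1
  simpa [Matrix.mul_apply, Fin.sum_univ_three] using h1

end Matrices

section Cover

variable {F : Type} [Field F] [Fintype F]

theorem two_zero (hF : Fintype.card F = 4) : ∀ x : F, x + x = 0 := by
  have h4 : ((4 : ℕ) : F) = 0 := hF ▸ Nat.cast_card_eq_zero F
  have h : (2 : F) * 2 = 0 := by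
    norm_num at h4 ⊢
    exact h4
  have h2 : (2 : F) = 0 := by
    rcases mul_eq_zero.1 h with h | h <;> exact h
  intro x
  rw [← two_mul, h2, zero_mul]

theorem exists_omega (hF : Fintype.card F = 4) :
    ∃ w : F, w ≠ 0 ∧ w ≠ 1 ∧ 1 + w ≠ 0 ∧ ∀ a : F, a = 0 ∨ a = 1 ∨ a = w ∨ a = 1 + w := by
  classical
  obtain ⟨w, hw⟩ : ∃ w : F, w ∉ ({0, 1} : Finset F) := by
    by_contra hne
    simp only [not_exists, not_not] at hne
    have hle : (Finset.univ : Finset F).card ≤ ({0, 1} : Finset F).card :=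
      Finset.card_le_card fun a _ => hne a
    rw [Finset.card_univ, hF] at hle
    exact absurd (le_trans hle Finset.card_le_two) (by norm_num)
  simp only [Finset.mem_insert, Finset.mem_singleton, not_or] at hw
  have h1w : 1 + w ≠ 0 := fun h => hw.2 (by
    have := two_zero hF w
    exact (add_right_cancel (h.trans this.symm)).symm)
  refine ⟨w, hw.1, hw.2, h1w, fun a => ?_⟩
  have hcard : ({0, 1, w, 1 + w} : Finset F).card = 4 := by
    have hw1 : (w : F) ≠ 1 + w := fun h => one_ne_zero (α := F) (by linear_combination -h)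
    have h11 : (1 : F) ≠ 1 + w := fun h => hw.1 (by linear_combination -h)
    rw [Finset.card_insert_of_notMem, Finset.card_insert_of_notMem, Finset.card_insert_of_notMem,
      Finset.card_singleton] <;> simp [hw.1, hw.2, Ne.symm hw.2, Ne.symm hw.1, hw1, h11, h1w.symm]
  have huniv : ({0, 1, w, 1 + w} : Finset F) = Finset.univ :=
    Finset.eq_univ_of_card _ (by rw [hcard, hF])
  have := Finset.mem_univ a
  rw [← huniv] at this
  simpa using this

theorem card_sl (hF : Fintype.card F = 4) :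
    Nat.card (SpecialLinearGroup (Fin 3) F) = 60480 := by
  have hq : Nat.card F = 4 := by rw [Nat.card_eq_fintype_card, hF]
  have h := ClassicalSL.card_sl_mul (ι := Fin 3) (F := F)
  rw [ClassicalSL.card_gl_fin hq, hq] at h
  simp [Fin.prod_univ_three] at h
  omega

variable {L : Type*} [Group L] [Finite L]

theorem card_ker_le (hF : Fintype.card F = 4)
    (π : L →* ProjectiveSpecialLinearGroup (Fin 3) F) (hπ : Function.Surjective π)
    (hperf : commutator L = ⊤) (hZc : π.ker ≤ Subgroup.center L)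
    (hZ2 : ∀ z ∈ π.ker, z * z = 1) : Nat.card ↥π.ker ≤ 4 := by
  classical
  have h2 := two_zero hF
  obtain ⟨w, hw0, hw1, h1w, hall⟩ := exists_omega hF
  let ψ : SpecialLinearGroup (Fin 3) F →* ProjectiveSpecialLinearGroup (Fin 3) F :=
    QuotientGroup.mk' _
  have hψ : Function.Surjective ψ := QuotientGroup.mk'_surjective _
  have hbig : ∃ u v x : F × F, u ≠ 0 ∧ v ≠ 0 ∧ x ≠ 0 ∧ v + x ≠ 0 ∧ u + v ≠ 0 ∧ u + x ≠ 0 ∧
      u + v + x ≠ 0 :=
    ⟨(1, 0), (0, 1), (w, 0), by simp, by simp, by simp [hw0], by simp, by simp, by simp [h1w],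
      by simp⟩
  have htwo : ∀ u : F × F, u + u = 0 := fun u => by ext <;> simp [h2]
  -- the two preimages are elementary abelian
  have sq1 : ∀ x : L, (∃ v : F × F, π x = ψ (uni v.1 v.2 0)) → x * x = 1 := by
    refine squares_trivial π (fun v : F × F => ψ (uni v.1 v.2 0)) hπ hZc hZ2 ?_ ?_ htwo (1, 0) ?_
      hbig
    · show ψ (uni 0 0 0) = 1
      rw [uni_zero, map_one]
    · intro u v
      rw [← map_mul, uni_mul]
      simp
    · intro v hv
      obtain ⟨g, hg⟩ := trans_row (a := v.1) (b := v.2)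
        (fun h => hv (Prod.ext h.1 h.2)) h2
      exact ⟨ψ g, by rw [← map_inv, ← map_mul, ← map_mul, hg]⟩
  have sq2 : ∀ x : L, (∃ v : F × F, π x = ψ (uni 0 v.2 v.1)) → x * x = 1 := by
    refine squares_trivial π (fun v : F × F => ψ (uni 0 v.2 v.1)) hπ hZc hZ2 ?_ ?_ htwo (1, 0) ?_
      hbig
    · show ψ (uni 0 0 0) = 1
      rw [uni_zero, map_one]
    · intro u v
      rw [← map_mul, uni_mul]
      simp
    · intro v hv
      obtain ⟨g, hg⟩ := trans_col (b := v.2) (c := v.1)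
        (fun h => hv (Prod.ext h.2 h.1)) h2
      exact ⟨ψ g, by rw [← map_inv, ← map_mul, ← map_mul, hg]⟩
  have comm1 : ∀ x y : L, (∃ a b, π x = ψ (uni a b 0)) → (∃ a b, π y = ψ (uni a b 0)) →
      x * y = y * x := by
    rintro x y ⟨a, b, hx⟩ ⟨a', b', hy⟩
    refine commute_of_squares (sq1 x ⟨(a, b), hx⟩) (sq1 y ⟨(a', b'), hy⟩) (sq1 _ ⟨(a + a', b + b'), ?_⟩)
    rw [map_mul, hx, hy, ← map_mul, uni_mul]
    simp
  have comm2 : ∀ x y : L, (∃ b c, π x = ψ (uni 0 b c)) → (∃ b c, π y = ψ (uni 0 b c)) →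
      x * y = y * x := by
    rintro x y ⟨b, c, hx⟩ ⟨b', c', hy⟩
    refine commute_of_squares (sq2 x ⟨(c, b), hx⟩) (sq2 y ⟨(c', b'), hy⟩) (sq2 _ ⟨(c + c', b + b'), ?_⟩)
    rw [map_mul, hx, hy, ← map_mul, uni_mul]
    simp
  -- `C` : preimage of the root group (1,3)
  let InC : L → Prop := fun x => ∃ b, π x = ψ (uni 0 b 0)
  have hC1 : ∀ k x : L, InC k → (∃ a b, π x = ψ (uni a b 0)) → k * x = x * k :=
    fun k x ⟨b, hk⟩ hx => comm1 k x ⟨0, b, hk⟩ hx
  have hC2 : ∀ k x : L, InC k → (∃ b c, π x = ψ (uni 0 b c)) → k * x = x * k :=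
    fun k x ⟨b, hk⟩ hx => comm2 k x ⟨b, 0, hk⟩ hx
  -- lifts
  choose la hla using fun a : F => hπ (ψ (uni a 0 0))
  choose lc hlc using fun c : F => hπ (ψ (uni 0 0 c))
  let κ : F → F → L := fun a c => ⁅la a, lc c⁆
  have hneg : ∀ x : F, -x = x := fun x => neg_eq_of_add_eq_zero_left (h2 x)
  have hκπ : ∀ a c, π (κ a c) = ψ (uni 0 (a * c) 0) := by
    intro a c
    show π ⁅la a, lc c⁆ = _
    rw [map_commutatorElement, hla, hlc, ← map_commutatorElement, commutatorElement_def]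
    congr 1
    rw [mul_inv_eq_iff_eq_mul, mul_inv_eq_iff_eq_mul, uni_mul, uni_mul, uni_mul]
    congr 1 <;> simp
  have hκC : ∀ a c, InC (κ a c) := fun a c => ⟨a * c, hκπ a c⟩
  -- commutator of arbitrary lifts
  have hindep : ∀ (a b b' c : F) (x y : L), π x = ψ (uni a b 0) → π y = ψ (uni 0 b' c) →
      ⁅x, y⁆ = κ a c := by
    intro a b b' c x y hx hy
    have hk : InC ((la a)⁻¹ * x) := by
      refine ⟨b, ?_⟩
      rw [map_mul, map_inv, hla, hx, inv_mul_eq_iff_eq_mul, ← map_mul, uni_mul]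
      simp
    have hm : InC ((lc c)⁻¹ * y) := by
      refine ⟨b', ?_⟩
      rw [map_mul, map_inv, hlc, hy, inv_mul_eq_iff_eq_mul, ← map_mul, uni_mul]
      simp
    set k := (la a)⁻¹ * x with hkdef
    set m := (lc c)⁻¹ * y with hmdef
    have hx' : x = la a * k := by rw [hkdef, mul_inv_cancel_left]
    have hy' : y = lc c * m := by rw [hmdef, mul_inv_cancel_left]
    have e1 : k * y = y * k := hC2 k y hk ⟨b', c, hy⟩
    have e2 : m * (la a)⁻¹ = (la a)⁻¹ * m :=
      (Commute.inv_right (hC1 m (la a) hm ⟨a, 0, hla a⟩)).eq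
    calc ⁅x, y⁆ = la a * (k * y) * k⁻¹ * (la a)⁻¹ * y⁻¹ := by
          rw [hx']; simp only [commutatorElement_def]; group
      _ = la a * (y * k) * k⁻¹ * (la a)⁻¹ * y⁻¹ := by rw [e1]
      _ = la a * lc c * (m * (la a)⁻¹) * m⁻¹ * (lc c)⁻¹ := by rw [hy']; group
      _ = la a * lc c * ((la a)⁻¹ * m) * m⁻¹ * (lc c)⁻¹ := by rw [e2]
      _ = κ a c := by simp only [κ, commutatorElement_def]; group
  have hκl : ∀ a a' c, κ (a + a') c = κ a c * κ a' c := by
    intro a a' c
    have h1 : π (la a * la a') = ψ (uni (a + a') 0 0) := by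
      rw [map_mul, hla, hla, ← map_mul, uni_mul]; simp
    have h2' := hindep (a + a') 0 0 c (la a * la a') (lc c) h1 (hlc c)
    rw [← h2']
    have e : la a * κ a' c = κ a' c * la a := (hC1 _ _ (hκC a' c) ⟨a, 0, hla a⟩).symm
    calc ⁅la a * la a', lc c⁆ = la a * κ a' c * (la a)⁻¹ * κ a c := by
          simp only [κ, commutatorElement_def]; group
      _ = κ a' c * la a * (la a)⁻¹ * κ a c := by rw [e]
      _ = κ a' c * κ a c := by group
      _ = κ a c * κ a' c :=
          comm1 _ _ ⟨0, a' * c, hκπ a' c⟩ ⟨0, a * c, hκπ a c⟩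
  have hκr : ∀ a c c', κ a (c + c') = κ a c * κ a c' := by
    intro a c c'
    have h1 : π (lc c * lc c') = ψ (uni 0 0 (c + c')) := by
      rw [map_mul, hlc, hlc, ← map_mul, uni_mul]; simp
    have h2' := hindep a 0 0 (c + c') (la a) (lc c * lc c') (hla a) h1
    rw [← h2']
    have e : lc c * κ a c' = κ a c' * lc c := (hC2 _ _ (hκC a c') ⟨0, c, hlc c⟩).symm
    calc ⁅la a, lc c * lc c'⁆ = κ a c * (lc c * κ a c') * (lc c)⁻¹ := by
          simp only [κ, commutatorElement_def]; group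
      _ = κ a c * (κ a c' * lc c) * (lc c)⁻¹ := by rw [e]
      _ = κ a c * κ a c' := by group
  have hκ0l : ∀ c, κ 0 c = 1 := fun c => by
    have := hκl 0 0 c; rw [add_zero] at this; exact mul_eq_left.1 this.symm
  have hκ0r : ∀ a, κ a 0 = 1 := fun a => by
    have := hκr a 0 0; rw [add_zero] at this; exact mul_eq_left.1 this.symm
  have hκsq : ∀ a c, κ a c * κ a c = 1 := fun a c => by
    rw [← hκl, h2, hκ0l]
  have hκcomm : ∀ a c a' c', κ a c * κ a' c' = κ a' c' * κ a c := fun a c a' c' =>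
    comm1 _ _ ⟨0, _, hκπ a c⟩ ⟨0, _, hκπ a' c'⟩
  -- the subgroup of order at most 16
  obtain ⟨D1, -, d1, k1, c1⟩ := exists_double (⊥ : Subgroup L) (κ 1 1) (hκsq 1 1)
    (fun h hh => by rw [Subgroup.mem_bot.1 hh, mul_one, one_mul])
  have bot_comm : ∀ g : L, ∀ h ∈ (⊥ : Subgroup L), g * h = h * g := fun g h hh => by
    rw [Subgroup.mem_bot.1 hh, mul_one, one_mul]
  obtain ⟨D2, i2, d2, k2, c2⟩ := exists_double D1 (κ 1 w) (hκsq 1 w)
    (c1 _ (bot_comm _) (hκcomm ..))
  obtain ⟨D3, i3, d3, k3, c3⟩ := exists_double D2 (κ w 1) (hκsq w 1)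
    (c2 _ (c1 _ (bot_comm _) (hκcomm ..)) (hκcomm ..))
  obtain ⟨D, i4, d4, k4, c4⟩ := exists_double D3 (κ w w) (hκsq w w)
    (c3 _ (c2 _ (c1 _ (bot_comm _) (hκcomm ..)) (hκcomm ..)) (hκcomm ..))
  have hDcard : Nat.card ↥D ≤ 16 := by
    have : Nat.card ↥(⊥ : Subgroup L) = 1 := Subgroup.card_bot
    omega
  have m11 : κ 1 1 ∈ D := i4 (i3 (i2 d1))
  have m1w : κ 1 w ∈ D := i4 (i3 d2)
  have mw1 : κ w 1 ∈ D := i4 d3
  have hmem1 : ∀ c, κ 1 c ∈ D := fun c => by
    rcases hall c with rfl | rfl | rfl | rfl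
    · rw [hκ0r]; exact D.one_mem
    · exact m11
    · exact m1w
    · rw [hκr]; exact D.mul_mem m11 m1w
  have hmemw : ∀ c, κ w c ∈ D := fun c => by
    rcases hall c with rfl | rfl | rfl | rfl
    · rw [hκ0r]; exact D.one_mem
    · exact mw1
    · exact d4
    · rw [hκr]; exact D.mul_mem mw1 d4
  have hmem : ∀ a c, κ a c ∈ D := fun a c => by
    rcases hall a with rfl | rfl | rfl | rfl
    · rw [hκ0l]; exact D.one_mem
    · exact hmem1 c
    · exact hmemw c
    · rw [hκl]; exact D.mul_mem (hmem1 c) (hmemw c)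
  -- the Sylow subgroup
  set P : Subgroup L := ((Usub (F := F)).map ψ).comap π with hP
  have hPodd : Odd P.index := by
    rw [hP, Subgroup.index_comap_of_surjective _ hπ]
    have hdvd : ((Usub (F := F)).map ψ).index ∣ (Usub (F := F)).index :=
      Subgroup.index_map_dvd _ hψ
    have hU : (Usub (F := F)).index = 945 := by
      have h := Subgroup.card_mul_index (Usub (F := F))
      rw [card_Usub, card_sl hF, Nat.card_eq_fintype_card, hF] at h
      omega
    rw [hU] at hdvd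
    exact Odd.of_dvd_nat (by decide) hdvd
  have hP' : ⁅P, P⁆ ≤ D := by
    rw [Subgroup.commutator_le]
    intro g hg h hh
    obtain ⟨_, ⟨⟨a, b, c⟩, rfl⟩, hga⟩ := Subgroup.mem_comap.1 hg
    obtain ⟨_, ⟨⟨a', b', c'⟩, rfl⟩, hha⟩ := Subgroup.mem_comap.1 hh
    simp only at hga hha
    -- split into the two elementary abelian factors
    set y := lc c with hy
    set x := g * y⁻¹ with hx
    set y' := lc c' with hy'
    set x' := h * y'⁻¹ with hx'
    have hxπ : π x = ψ (uni a (b + a * c) 0) := by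
      rw [hx, map_mul, map_inv, hlc, ← hga, mul_inv_eq_iff_eq_mul, ← map_mul, uni_mul]
      congr 2 <;> simp [add_assoc, h2]
    have hx'π : π x' = ψ (uni a' (b' + a' * c') 0) := by
      rw [hx', map_mul, map_inv, hlc, ← hha, mul_inv_eq_iff_eq_mul, ← map_mul, uni_mul]
      congr 2 <;> simp [add_assoc, h2]
    have k1 : ⁅x, y'⁆ = κ a c' := hindep _ _ 0 _ x y' hxπ (hlc c')
    have k2 : ⁅x', y⁆ = κ a' c := hindep _ _ 0 _ x' y hx'π (hlc c)
    have exx : x * x' = x' * x := comm1 _ _ ⟨_, _, hxπ⟩ ⟨_, _, hx'π⟩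
    have eyy : y * y' = y' * y := comm2 _ _ ⟨_, _, hlc c⟩ ⟨_, _, hlc c'⟩
    have hg' : g = x * y := by rw [hx, inv_mul_cancel_right]
    have hh' : h = x' * y' := by rw [hx', inv_mul_cancel_right]
    have kc : ∀ a c, κ a c * x = x * κ a c ∧ κ a c * x' = x' * κ a c :=
      fun a c => ⟨hC1 _ _ (hκC a c) ⟨_, _, hxπ⟩, hC1 _ _ (hκC a c) ⟨_, _, hx'π⟩⟩
    have hexp : ⁅x * y, x' * y'⁆ =
        x * ⁅y, x'⁆ * (x' * ⁅y, y'⁆ * x'⁻¹) * x⁻¹ * ⁅x, x'⁆ * (x' * ⁅x, y'⁆ * x'⁻¹) := by
      simp only [commutatorElement_def]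
      group
    have t1 : ⁅y, y'⁆ = 1 := commutatorElement_eq_one_iff_mul_comm.2 eyy
    have t2 : ⁅x, x'⁆ = 1 := commutatorElement_eq_one_iff_mul_comm.2 exx
    have t3 : ⁅y, x'⁆ = (κ a' c)⁻¹ := by rw [← k2, commutatorElement_inv]
    rw [hg', hh', hexp, t1, t2, t3, k1]
    have u1 : x * (κ a' c)⁻¹ = (κ a' c)⁻¹ * x := (Commute.inv_left (kc a' c).1).eq.symm
    have u2 : x' * κ a c' = κ a c' * x' := (kc a c').2.symm
    rw [u1, u2]
    have : (κ a' c)⁻¹ * x * (x' * 1 * x'⁻¹) * x⁻¹ * 1 * (κ a c' * x' * x'⁻¹) =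
        (κ a' c)⁻¹ * κ a c' := by group
    rw [this]
    exact D.mul_mem (D.inv_mem (hmem a' c)) (hmem a c')
  have hZD : π.ker ≤ D := fun z hz =>
    hP' (mem_commutator_of_perfect hperf P hPodd z (hZc hz) (hZ2 z hz))
  -- the image of `D` has at least four elements
  have hinj : Function.Injective fun b : F => ψ (uni 0 b 0) := by
    intro b b' hbb
    have h0 : ψ (uni 0 b 0 * uni 0 b' 0) = 1 := by
      rw [map_mul, show ψ (uni 0 b 0) = ψ (uni 0 b' 0) from hbb, ← map_mul, uni_mul]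
      simp [h2, uni_zero]
    rw [uni_mul] at h0
    simp only [add_zero, zero_mul, mul_zero] at h0
    have := uni13_central_eq ((QuotientGroup.eq_one_iff _).1 h0)
    rw [← hneg b']
    exact eq_neg_of_add_eq_zero_left this
  have himg : 4 ≤ Nat.card ↥(D.map π) := by
    have hsub : Set.range (fun b : F => ψ (uni 0 b 0)) ⊆ (D.map π : Set _) := by
      rintro _ ⟨b, rfl⟩
      exact ⟨κ b 1, hmem b 1, by rw [hκπ, mul_one]⟩
    have := Nat.card_mono (Set.toFinite _) hsub
    rw [Nat.card_range_of_injective hinj, Nat.card_eq_fintype_card, hF] at this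
    exact this
  have hcard : Nat.card ↥(D.map π) * Nat.card ↥π.ker = Nat.card ↥D := by
    have h := Subgroup.card_mul_index (π.domRestrict D).ker
    rw [Subgroup.index_ker, MonoidHom.domRestrict_range] at h
    have e : Nat.card ↥(π.domRestrict D).ker = Nat.card ↥π.ker := by
      rw [MonoidHom.ker_domRestrict]
      exact Nat.card_congr (Subgroup.subgroupOfEquivOfLe hZD).toEquiv
    rw [e, mul_comm] at h
    exact h
  nlinarith

end Cover

end Cfsg.Agent.PSL34Cover
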