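import Cfsg.Agent.Lib.LargeExtra.PlusLift
import Cfsg.Prelude.Def_SporadicB
import Mathlib.GroupTheory.SpecificGroups.Alternating
import Mathlib.GroupTheory.Perm.Centralizer

/-!
# A double cover of the alternating group of degree eight

It is realized by 16 by 16 matrices over the field with three elements permuting eight pairwise anticommuting
matrices of square one.
-/

set_option autoImplicit false

namespace Cfsg.Agent.AltEight

open Cfsg.Agent.PlusLift Matrix

local notation "MM" => Matrix (Pt 4) (Pt 4) (ZMod 3)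

/-- The eight vectors. -/
def vec : Fin 8 → Sp 4 :=
  ![(![1, 0, 0, 0], ![0, 0, 0, 0]), (![0, 0, 0, 0], ![1, 0, 0, 0]), (![1, 1, 0, 0], ![1, 1, 0, 0]),
    (![1, 1, 1, 0], ![1, 0, 1, 0]), (![1, 0, 1, 1], ![1, 1, 1, 0]), (![1, 1, 1, 1], ![1, 0, 0, 1]),
    (![1, 0, 0, 1], ![1, 1, 0, 1]), (![1, 1, 0, 1], ![1, 0, 1, 1])]

theorem beta_vec : ∀ i, beta (vec i) (vec i) = 0 := by decide

theorem beta_vec_ne : ∀ i j, i ≠ j → beta (vec j) (vec i) = beta (vec i) (vec j) + 1 := by decide

theorem vec_inj : ∀ i j, vec i = vec j → i = j := by decide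

/-- The anticommuting matrices. -/
def γ (i : Fin 8) : MM := M (vec i)

theorem γ_sq (i : Fin 8) : γ i * γ i = 1 := by
  rw [γ, M_mul, beta_vec, sgn_zero, one_smul, add_self, M_zero]

theorem γ_swap {i j : Fin 8} (h : i ≠ j) : γ j * γ i = -(γ i * γ j) := by
  rw [γ, γ, M_mul, M_mul, beta_vec_ne i j h, sgn_add, sgn_one, add_comm (vec j), mul_neg_one, neg_smul]

/-- The combination of the eight vectors. -/
def comb : (Fin 8 → ZMod 2) →ₗ[ZMod 2] Sp 4 := Fintype.linearCombination (ZMod 2) vec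

set_option maxRecDepth 100000 in
theorem comb_ker : ∀ f : Fin 8 → ZMod 2, comb f = 0 → f = 0 := by decide +kernel

/-- A matrix commuting with the eight matrices commutes with all. -/
theorem commute_all (g : MM) (h : ∀ i, g * γ i = γ i * g) (u : Sp 4) : g * M u = M u * g := by
  have hinj : Function.Injective comb := (injective_iff_map_eq_zero _).2 comb_ker
  obtain ⟨f, rfl⟩ := (LinearMap.injective_iff_surjective_of_finrank_eq_finrank
    (by simp [Module.finrank_prod, Module.finrank_pi])).1 hinj u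
  rw [comb, Fintype.linearCombination_apply]
  suffices hs : ∀ t : Finset (Fin 8), g * M (∑ i ∈ t, f i • vec i) = M (∑ i ∈ t, f i • vec i) * g from hs _
  intro t
  induction t using Finset.induction_on with
  | empty => rw [Finset.sum_empty, M_zero, mul_one, one_mul]
  | insert i t hi ih =>
    rw [Finset.sum_insert hi]
    rcases (by decide : ∀ x : ZMod 2, x = 0 ∨ x = 1) (f i) with hx | hx
    · rw [hx, zero_smul, zero_add]; exact ih
    · rw [hx, one_smul]
      set s := ∑ j ∈ t, f j • vec j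
      have e : M (vec i + s) = sgn (beta (vec i) s) • (γ i * M s) := by
        rw [γ, M_mul, smul_smul, sgn_sq, one_smul]
      rw [e, mul_smul_comm, smul_mul_assoc, ← mul_assoc, h, mul_assoc, ih, mul_assoc]

/-- The difference of two of the matrices, as a unit. -/
def s (a b : Fin 8) (h : a ≠ b) : GG 4 where
  val := γ a - γ b
  inv := γ b - γ a
  val_inv := by
    rw [sub_mul, mul_sub, mul_sub, γ_sq, γ_sq, γ_swap h]
    ext i j
    simp only [Matrix.sub_apply, Matrix.neg_apply, Matrix.one_apply]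
    generalize (γ a * γ b) i j = x
    split_ifs <;> revert x <;> decide
  inv_val := by
    rw [sub_mul, mul_sub, mul_sub, γ_sq, γ_sq, γ_swap h]
    ext i j
    simp only [Matrix.sub_apply, Matrix.neg_apply, Matrix.one_apply]
    generalize (γ a * γ b) i j = x
    split_ifs <;> revert x <;> decide

theorem s_sq (a b : Fin 8) (h : a ≠ b) : s a b h * s a b h = -1 := by
  have h1 : s a b h * (-s a b h) = 1 := by
    have : (s a b h)⁻¹ = -s a b h := Units.ext (show γ b - γ a = -(γ a - γ b) by rw [neg_sub])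
    rw [← this, mul_inv_cancel]
  rw [mul_neg, neg_eq_iff_eq_neg] at h1
  exact h1

theorem s_anti {a b c d : Fin 8} (h : a ≠ b) (h' : c ≠ d) (hac : a ≠ c) (had : a ≠ d) (hbc : b ≠ c) (hbd : b ≠ d) :
    s c d h' * s a b h = -(s a b h * s c d h') := by
  refine Units.ext ?_
  show (γ c - γ d) * (γ a - γ b) = -((γ a - γ b) * (γ c - γ d))
  rw [sub_mul, mul_sub, mul_sub, γ_swap hac, γ_swap had, γ_swap hbc, γ_swap hbd, sub_mul, mul_sub, mul_sub]
  abel

/-- Inducing a permutation up to its sign. -/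
def Ind (g : GG 4) (σ : Equiv.Perm (Fin 8)) : Prop :=
  ∀ i, (g : MM) * γ i = ((Equiv.Perm.sign σ : ℤ) : ZMod 3) • (γ (σ i) * (g : MM))

theorem ind_one : Ind 1 1 := fun i => by
  rw [map_one, Units.val_one, Units.val_one, Int.cast_one, one_smul, one_mul, mul_one]
  rfl

theorem Ind.mul {g h : GG 4} {σ τ : Equiv.Perm (Fin 8)} (hg : Ind g σ) (hh : Ind h τ) : Ind (g * h) (σ * τ) := by
  intro i
  rw [Units.val_mul, mul_assoc, hh, mul_smul_comm, ← mul_assoc, hg, smul_mul_assoc, smul_smul, mul_assoc, map_mul,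
    Units.val_mul, Int.cast_mul, mul_comm ((Equiv.Perm.sign σ : ℤ) : ZMod 3)]
  rfl

theorem ind_swap (a b : Fin 8) (h : a ≠ b) : Ind (s a b h) (Equiv.swap a b) := by
  intro i
  rw [Equiv.Perm.sign_swap h, Units.val_neg, Units.val_one, Int.cast_neg, Int.cast_one, neg_one_smul]
  show (γ a - γ b) * γ i = -(γ (Equiv.swap a b i) * (γ a - γ b))
  by_cases h1 : i = a
  · subst h1; rw [Equiv.swap_apply_left, sub_mul, mul_sub, γ_sq, γ_sq]; abel
  by_cases h2 : i = b
  · subst h2; rw [Equiv.swap_apply_right, sub_mul, mul_sub, γ_sq, γ_sq]; abel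
  rw [Equiv.swap_apply_of_ne_of_ne h1 h2, sub_mul, mul_sub, γ_swap h1, γ_swap h2]
  abel

theorem exists_ind (σ : Equiv.Perm (Fin 8)) : ∃ g, Ind g σ := by
  refine Equiv.Perm.swap_induction_on σ ⟨1, ind_one⟩ fun f x y hxy hf => ?_
  obtain ⟨g, hg⟩ := hf
  exact ⟨_, (ind_swap x y hxy).mul hg⟩

/-- The cover. -/
def cover : Subgroup (GG 4) where
  carrier := {g | ∃ σ ∈ alternatingGroup (Fin 8), Ind g σ}
  one_mem' := ⟨1, one_mem _, ind_one⟩
  mul_mem' := fun ⟨σ, hσ, hg⟩ ⟨τ, hτ, hh⟩ => ⟨σ * τ, mul_mem hσ hτ, hg.mul hh⟩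
  inv_mem' := fun {g} ⟨σ, hσ, hg⟩ => ⟨σ⁻¹, inv_mem hσ, fun i => by
    have h1 : ((Equiv.Perm.sign σ : ℤ) : ZMod 3) = 1 := by
      rw [Equiv.Perm.mem_alternatingGroup.1 hσ, Units.val_one, Int.cast_one]
    have h := hg (σ⁻¹ i)
    rw [h1, one_smul, show σ (σ⁻¹ i) = i from σ.apply_symm_apply i] at h
    rw [map_inv, Equiv.Perm.mem_alternatingGroup.1 hσ, inv_one, Units.val_one, Int.cast_one, one_smul]
    have h2 := congrArg (fun X : MM => (↑g⁻¹ : MM) * X * (↑g⁻¹ : MM)) h
    simp only [mul_assoc, Units.mul_inv, mul_one] at h2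
    rw [← mul_assoc, Units.inv_mul, one_mul] at h2
    exact h2.symm⟩

theorem mem_cover {g : GG 4} {σ : Equiv.Perm (Fin 8)} (hσ : σ ∈ alternatingGroup (Fin 8)) (hg : Ind g σ) :
    g ∈ cover := ⟨σ, hσ, hg⟩

theorem exists_double_cover : ∃ (H : Type) (_ : Group H) (_ : Finite H),
    Cfsg.IsNonsplitDoubleCover H (alternatingGroup (Fin 8)) ∧ ∃ x y : H, x ≠ y ∧ orderOf x = 2 ∧ orderOf y = 2 := by
  classical
  have hsgn : ∀ σ : alternatingGroup (Fin 8), ((Equiv.Perm.sign (σ : Equiv.Perm (Fin 8)) : ℤ) : ZMod 3) = 1 := fun σ => by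
    rw [Equiv.Perm.mem_alternatingGroup.1 σ.2, Units.val_one, Int.cast_one]
  choose σf hσf hind using fun g : cover => g.2
  have huniq : ∀ (g : cover) (τ : Equiv.Perm (Fin 8)), τ ∈ alternatingGroup (Fin 8) → Ind (g : GG 4) τ → τ = σf g := by
    intro g τ hτ hg
    refine Equiv.ext fun i => vec_inj _ _ ?_
    have h := (hg i).symm.trans (hind g i)
    rw [hsgn ⟨τ, hτ⟩, hsgn ⟨σf g, hσf g⟩, one_smul, one_smul] at h
    have h2 := congrArg (fun X : MM => X * (↑(g : GG 4)⁻¹ : MM)) h
    simp only [mul_assoc, Units.mul_inv, mul_one] at h2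
    exact M_eq_of_smul one_ne_zero (congrArg (fun X : MM => (1 : ZMod 3) • X) h2)
  let π : cover →* alternatingGroup (Fin 8) :=
    { toFun := fun g => ⟨σf g, hσf g⟩
      map_one' := Subtype.ext (huniq 1 1 (one_mem _) ind_one).symm
      map_mul' := fun g h => Subtype.ext (huniq (g * h) _ (mul_mem (hσf g) (hσf h)) ((hind g).mul (hind h))).symm }
  have hπv : ∀ g : cover, ((π g : alternatingGroup (Fin 8)) : Equiv.Perm (Fin 8)) = σf g := fun g => rfl
  have hπ : Function.Surjective π := fun τ => by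
    obtain ⟨g, hg⟩ := exists_ind (τ : Equiv.Perm (Fin 8))
    refine ⟨⟨g, mem_cover τ.2 hg⟩, Subtype.ext ?_⟩
    rw [hπv]
    exact (huniq ⟨g, mem_cover τ.2 hg⟩ τ.1 τ.2 hg).symm
  have hker : ∀ g : cover, g ∈ π.ker → (g : GG 4) = 1 ∨ (g : GG 4) = -1 := by
    intro g hg
    have h1 : σf g = 1 := (hπv g).symm.trans (congrArg Subtype.val hg)
    obtain ⟨a, ha⟩ := eq_sgn_of_commute (g : GG 4) (commute_all _ fun i => by
      rw [hind g i, hsgn ⟨σf g, hσf g⟩, one_smul, h1, Equiv.Perm.one_apply])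
    rcases (by decide : ∀ x : ZMod 2, x = 0 ∨ x = 1) a with rfl | rfl
    · exact Or.inl (Units.ext (by rw [ha, sgn_zero, one_smul, Units.val_one]))
    · exact Or.inr (Units.ext (by rw [ha, sgn_one, neg_one_smul, Units.val_neg, Units.val_one]))
  have hm1 : (-1 : GG 4) ∈ cover := mem_cover (σ := 1) (one_mem _) (fun i => by
    rw [map_one, Units.val_one, Int.cast_one, one_smul, Units.val_neg, Units.val_one, neg_one_mul, mul_neg_one,
      Equiv.Perm.one_apply])
  let z : cover := ⟨-1, hm1⟩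
  have hz1 : z ≠ 1 := fun h => by
    have h2 := congrFun (congrFun (congrArg (fun g : cover => ((g : GG 4) : MM)) h) 0) 0
    simp [z, Matrix.one_apply] at h2
    exact absurd h2 (by decide)
  have hcen : Subgroup.center cover = π.ker := by
    apply le_antisymm
    · intro g hg
      rw [MonoidHom.mem_ker]
      have h2 : π g ∈ Subgroup.center (alternatingGroup (Fin 8)) := Subgroup.mem_center_iff.2 fun b => by
        obtain ⟨h, rfl⟩ := hπ b
        rw [← map_mul, ← map_mul, Subgroup.mem_center_iff.1 hg h]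
      rwa [alternatingGroup.center_eq_bot (by simp), Subgroup.mem_bot] at h2
    · intro g hg
      refine Subgroup.mem_center_iff.2 fun h => Subtype.ext ?_
      rcases hker g hg with h1 | h1 <;>
        · show (h : GG 4) * (g : GG 4) = (g : GG 4) * (h : GG 4)
          rw [h1]
          exact Units.ext (by simp)
  have hzker : z ∈ π.ker := Subtype.ext ((hπv z).trans (huniq z 1 (one_mem _) fun i => by
    rw [map_one, Units.val_one, Int.cast_one, one_smul, show ((z : GG 4) : MM) = -1 from Units.val_neg 1 |>.trans (by rw [Units.val_one]), neg_one_mul,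
      mul_neg_one, Equiv.Perm.one_apply]).symm)
  have hcard : Nat.card (Subgroup.center cover) = 2 := by
    rw [hcen, Nat.card_eq_two_iff]
    refine ⟨1, ⟨z, hzker⟩, fun h => hz1 (congrArg Subtype.val h).symm, Set.eq_univ_of_forall fun g => ?_⟩
    rcases hker g.1 g.2 with h1 | h1
    · exact Or.inl (Subtype.ext (Subtype.ext h1))
    · exact Or.inr (Subtype.ext (Subtype.ext h1))
  refine ⟨cover, inferInstance, inferInstance,
    ⟨hcard, ⟨(QuotientGroup.quotientMulEquivOfEq hcen).trans (QuotientGroup.quotientKerEquivOfSurjective π hπ)⟩,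
      fun L hL => ?_⟩, ?_⟩
  · -- no complement
    have hL' : Subgroup.IsComplement' L (Subgroup.center cover) := hL.symm
    let w : alternatingGroup (Fin 8) := ⟨Equiv.swap 0 1 * Equiv.swap 2 3, by
      rw [Equiv.Perm.mem_alternatingGroup, map_mul, Equiv.Perm.sign_swap (by decide), Equiv.Perm.sign_swap (by decide)]
      rfl⟩
    have hg : Ind (s 0 1 (by decide) * s 2 3 (by decide)) w := (ind_swap 0 1 _).mul (ind_swap 2 3 _)
    let g : cover := ⟨_, mem_cover w.2 hg⟩
    have hgπ : π g = w := Subtype.ext ((hπv g).trans (huniq g _ w.2 hg).symm)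
    obtain ⟨⟨l, c⟩, hlc⟩ := hL'.2 g
    have hlπ : π l = w := by
      rw [← hgπ, ← hlc, map_mul, show π (c : cover) = 1 from hcen.le c.2, mul_one]
    have hl2 : (l : cover) * l = 1 := by
      have h1 : π ((l : cover) * l) = 1 := by
        rw [map_mul, hlπ]
        exact Subtype.ext (by decide : (Equiv.swap 0 1 * Equiv.swap 2 3 : Equiv.Perm (Fin 8)) *
          (Equiv.swap 0 1 * Equiv.swap 2 3) = 1)
      exact Subgroup.mem_bot.1 (hL'.disjoint.le_bot ⟨mul_mem l.2 l.2, hcen.ge h1⟩)
    have hgg : g * g = 1 := by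
      rw [← hlc]
      have hc2 : (c : cover) * c = 1 := by
        have h := pow_card_eq_one' (x := (⟨c.1, c.2⟩ : ↥(Subgroup.center cover)))
        rw [hcard, pow_two] at h
        exact congrArg Subtype.val h
      show (l : cover) * c * (l * c) = 1
      rw [mul_assoc, ← mul_assoc (c : cover), ← Subgroup.mem_center_iff.1 c.2 l, mul_assoc (l : cover), hc2, mul_one,
        hl2]
    refine hz1 (Subtype.ext ?_)
    rw [Subgroup.coe_one, ← show ((g * g : cover) : GG 4) = 1 by rw [hgg]; rfl]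
    show (-1 : GG 4) = s 0 1 _ * s 2 3 _ * (s 0 1 _ * s 2 3 _)
    rw [mul_assoc, ← mul_assoc (s 2 3 _), s_anti (h := (by decide : (0 : Fin 8) ≠ 1))
      (h' := (by decide : (2 : Fin 8) ≠ 3)) (by decide) (by decide) (by decide) (by decide), neg_mul, mul_neg,
      mul_assoc, s_sq, ← mul_assoc, s_sq]
    simp
  · let a := s 0 1 (by decide) * s 2 3 (by decide)
    let b := s 4 5 (by decide) * s 6 7 (by decide)
    let τ : Equiv.Perm (Fin 8) := Equiv.swap 0 1 * Equiv.swap 2 3 * (Equiv.swap 4 5 * Equiv.swap 6 7)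
    have hτ : τ ∈ alternatingGroup (Fin 8) := by
      rw [Equiv.Perm.mem_alternatingGroup]; decide
    have hy : Ind (a * b) τ := ((ind_swap 0 1 _).mul (ind_swap 2 3 _)).mul ((ind_swap 4 5 _).mul (ind_swap 6 7 _))
    let y : cover := ⟨_, mem_cover hτ hy⟩
    have hsq : ∀ (c d e f : Fin 8) (hcd : c ≠ d) (hef : e ≠ f), c ≠ e → c ≠ f → d ≠ e → d ≠ f →
        s c d hcd * s e f hef * (s c d hcd * s e f hef) = -1 := fun c d e f hcd hef h1 h2 h3 h4 => by
      rw [mul_assoc, ← mul_assoc (s e f hef), s_anti hcd hef h1 h2 h3 h4, neg_mul, mul_neg, mul_assoc, s_sq,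
        ← mul_assoc, s_sq]
      simp
    have hcom : ∀ (c d : Fin 8) (hcd : c ≠ d), c ≠ 4 → c ≠ 5 → c ≠ 6 → c ≠ 7 → d ≠ 4 → d ≠ 5 → d ≠ 6 → d ≠ 7 →
        b * s c d hcd = s c d hcd * b := fun c d hcd h4 h5 h6 h7 k4 k5 k6 k7 => by
      simp only [b]
      rw [mul_assoc, s_anti hcd _ h6 h7 k6 k7, mul_neg, ← mul_assoc, s_anti hcd _ h4 h5 k4 k5, neg_mul, neg_neg,
        mul_assoc]
    have hab : b * a = a * b := by
      show b * (s 0 1 _ * s 2 3 _) = s 0 1 _ * s 2 3 _ * b
      rw [← mul_assoc, hcom 0 1 _ (by decide) (by decide) (by decide) (by decide) (by decide) (by decide) (by decide)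
        (by decide), mul_assoc, hcom 2 3 _ (by decide) (by decide) (by decide) (by decide) (by decide) (by decide)
        (by decide) (by decide), mul_assoc]
    have hyy : y * y = 1 := Subtype.ext (by
      show a * b * (a * b) = 1
      rw [mul_assoc, ← mul_assoc b, hab, mul_assoc a b b, ← mul_assoc a a, hsq 0 1 2 3 _ _ (by decide) (by decide)
        (by decide) (by decide), hsq 4 5 6 7 _ _ (by decide) (by decide) (by decide) (by decide)]
      simp)
    have hτ1 : σf y ≠ 1 := by
      rw [← huniq y τ hτ hy]; decide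
    refine ⟨z, y, fun h => hτ1 ?_, orderOf_eq_prime (Subtype.ext (by simp [z, pow_two])) hz1,
      orderOf_eq_prime (by rw [pow_two, hyy]) fun h => hτ1 ?_⟩
    · rw [← h]; exact (hπv z).symm.trans (congrArg Subtype.val hzker)
    · rw [h]; exact congrArg Subtype.val (map_one π)

end Cfsg.Agent.AltEight
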